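import Groth.Agent.H06Conn.ProperCount
import Groth.Agent.H18HTop.SpecLiftDVR
import Groth.Agent.S0384

/-!
Properness over a discrete valuation ring from a proper closed fibre and a geometrically connected generic fibre.
-/

set_option autoImplicit false
set_option linter.style.haveILetI false
set_option backward.isDefEq.respectTransparency false

open CategoryTheory CategoryTheory.Limits AlgebraicGeometry TopologicalSpace Topology

universe u

namespace Groth.Agent.H06ProperGC

variable {R : Type u} [CommRing R] [IsDomain R] [IsDiscreteValuationRing R] {X : Scheme.{u}}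
  (f : X ⟶ Spec (CommRingCat.of R))

abbrev genR : PrimeSpectrum R := ⟨⊥, Ideal.isPrime_bot⟩

theorem exists_generization [Flat f] (x : X) : ∃ η : X, η ⤳ x ∧ f η = (genR : PrimeSpectrum R) := by
  obtain ⟨η, hη, h⟩ := Flat.generalizingMap f
    ((PrimeSpectrum.le_iff_specializes (genR (R := R)) (f x)).1 bot_le)
  exact ⟨η, hη, h⟩

/-- Maximal points of a noetherian space generizing a given point. -/
theorem exists_maximal_generization {W : Scheme.{u}} (w : W) :
    ∃ v : W, v ⤳ w ∧ ∀ v', v' ⤳ v → v' = v := by
  let Z := irreducibleComponent w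
  have hZ : Z ∈ irreducibleComponents W := irreducibleComponent_mem_irreducibleComponents w
  have hg := (isIrreducible_irreducibleComponent (x := w)).isGenericPoint_genericPoint isClosed_irreducibleComponent
  refine ⟨_, hg.specializes mem_irreducibleComponent, fun v' hv' => ?_⟩
  have hle : Z ⊆ closure {v'} := by
    exact hg.def.symm.le.trans ((isClosed_closure.closure_subset_iff).2 (Set.singleton_subset_iff.2 hv'.mem_closure))
  have heq : closure {v'} = Z := le_antisymm (hZ.2 isIrreducible_singleton.closure hle) hle
  exact IsGenericPoint.eq heq hg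

/-- A flat separated scheme with nonempty proper closed fibre and geometrically connected generic fibre
is proper. -/
theorem isProper_of_closedFibre [Flat f] [IsSeparated f] [LocallyOfFiniteType f] [QuasiCompact f]
    [IsProper (f.fiberToSpecResidueField (IsLocalRing.closedPoint R))]
    [Nonempty ↥(f.fiber (IsLocalRing.closedPoint R))]
    [GeometricallyConnected (f.fiberToSpecResidueField (genR : Spec (CommRingCat.of R)))] : IsProper f := by
  obtain ⟨Xc, j, g, hj, hjq, hg, hfg⟩ := S0384.result f
  let Z : Closeds Xc := ⟨closure (Set.range j), isClosed_closure⟩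
  let i := (Scheme.IdealSheafData.vanishingIdeal Z).subschemeι
  have hrange : Set.range i = closure (Set.range j) := by
    rw [Scheme.IdealSheafData.range_subschemeι, Scheme.IdealSheafData.coe_support_vanishingIdeal]
    rfl
  let W := (Scheme.IdealSheafData.vanishingIdeal Z).subscheme
  let q : W ⟶ Spec (CommRingCat.of R) := i ≫ g
  haveI : AlgebraicGeometry.IsReduced W := H17.isReduced_vanishingIdeal_subscheme Z
  haveI : IsProper q := inferInstance
  haveI : IsLocallyNoetherian X := LocallyOfFiniteType.isLocallyNoetherian f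
  haveI : CompactSpace X := QuasiCompact.compactSpace_of_compactSpace f
  haveI : NoetherianSpace X := by
    haveI : IsNoetherian X := {}
    infer_instance
  -- every point of the closure is a specialization of a maximal point of `X`
  have hgenZ : ∀ w : W, ∃ x : X, j x ⤳ i w ∧ f x = (genR : PrimeSpectrum R) := fun w => by
    have hw : i w ∈ closure (Set.range j) := hrange ▸ Set.mem_range_self w
    have hfin : (irreducibleComponents X).Finite := NoetherianSpace.finite_irreducibleComponents
    have : Set.range j = ⋃ C ∈ irreducibleComponents X, j '' C := by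
      rw [← Set.image_iUnion₂, ← Set.sUnion_eq_biUnion, sUnion_irreducibleComponents, Set.image_univ]
    rw [this, hfin.closure_biUnion] at hw
    obtain ⟨C, hC, hwC⟩ := Set.mem_iUnion₂.1 hw
    have hg := hC.1.isGenericPoint_genericPoint (isClosed_of_mem_irreducibleComponents C hC)
    obtain ⟨η, hη, hfη⟩ := exists_generization f (hC.1.genericPoint)
    refine ⟨η, specializes_iff_mem_closure.2 (closure_minimal ?_ isClosed_closure hwC), hfη⟩
    rintro _ ⟨c, hc, rfl⟩
    exact specializes_iff_mem_closure.1 (((hη.trans (hg.specializes hc))).map j.continuous)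
  have hjW : ∀ x : X, ∃ w : W, i w = j x := fun x => by
    have : j x ∈ Set.range i := by rw [hrange]; exact subset_closure (Set.mem_range_self x)
    exact this
  have hqi : ∀ w, q w = g (i w) := fun w => rfl
  have hfj : ∀ x, g (j x) = f x := fun x => by rw [← hfg]; rfl
  have hgen : H06Conn.HasGenericGenerization q := fun w => by
    obtain ⟨x, hx, hfx⟩ := hgenZ w
    obtain ⟨w', hw'⟩ := hjW x
    refine ⟨w', i.isEmbedding.toIsInducing.specializes_iff.1 (hw' ▸ hx), ?_⟩
    rw [hqi, hw', hfj]; exact hfx
  -- the geometric generic fibre of the closure is connected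
  let P := pullback f (H06Conn.genPt (A := R))
  haveI hP : ConnectedSpace ↥P := by
    let Ω := AlgebraicClosure (FractionRing R)
    have h1 : MoreMor.nGeomConnComp f (genR : Spec (CommRingCat.of R)) = 1 :=
      (H7Flat.GeomInt.geometricallyConnected_fiber_iff f _).1 inferInstance
    rw [H7Flat.GeomInt.connectedSpace_iff_card,
      (H7Flat.GeomInt.nGeom_eq f (H06Conn.genPt (A := R)) (y := (genR : PrimeSpectrum R)) (H06Conn.genPt_apply _)).2]
    exact h1
  obtain ⟨k, hk⟩ : ∃ k : X ⟶ Xc, k = j := ⟨j, rfl⟩
  haveI : ConnectedSpace ↥(pullback q (H06Conn.genPt (A := R))) := by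
    let PW := pullback q (H06Conn.genPt (A := R))
    let T := pullback g (H06Conn.genPt (A := R))
    let a : P ⟶ T := pullback.map f _ g _ j (𝟙 _) (𝟙 _) (by simp [hfg]) (by simp)
    let b : PW ⟶ T := pullback.map q _ g _ i (𝟙 _) (𝟙 _) (by simp [q]) (by simp)
    haveI : Flat (pullback.fst q (H06Conn.genPt (A := R))) := by
      haveI : Flat (H06Conn.genPt (A := R)) := by
        rw [H06Conn.genPt, HasRingHomProperty.Spec_iff (P := @Flat)]
        exact RingHom.flat_algebraMap_iff.2
          (Module.Flat.trans R (FractionRing R) (AlgebraicClosure (FractionRing R)))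
      infer_instance
    have hpb : IsPullback b (pullback.fst q (H06Conn.genPt (A := R))) (pullback.fst g (H06Conn.genPt (A := R))) i := by
      refine IsPullback.of_right ?_ (pullback.lift_fst _ _ _) (IsPullback.of_hasPullback g _).flip
      rw [show b ≫ pullback.snd g _ = pullback.snd q _ from (pullback.lift_snd _ _ _).trans (Category.comp_id _)]
      exact (IsPullback.of_hasPullback q _).flip
    haveI : IsPreimmersion b := MorphismProperty.of_isPullback (P := @IsPreimmersion) hpb.flip inferInstance
    have hb : IsEmbedding b := b.isEmbedding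
    have hdense : closure (b ⁻¹' Set.range a) = Set.univ := by
      refine Set.eq_univ_of_forall fun z => ?_
      obtain ⟨v, hv, hmax⟩ := exists_maximal_generization z
      have hmaxW : ∀ w', w' ⤳ pullback.fst q H06Conn.genPt v → w' = pullback.fst q H06Conn.genPt v := fun w' hw' => by
        obtain ⟨v', hv', e⟩ := Flat.generalizingMap (pullback.fst q (H06Conn.genPt (A := R))) hw'
        rw [← e, hmax v' hv']
      obtain ⟨x, hx, hfx⟩ := hgenZ (pullback.fst q H06Conn.genPt v)
      obtain ⟨w', hw'⟩ := hjW x
      have e1 := hmaxW w' (i.isEmbedding.toIsInducing.specializes_iff.1 (hw' ▸ hx))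
      have e2 : pullback.fst g H06Conn.genPt (b v) = j x := by
        rw [← hw', e1, ← Scheme.Hom.comp_apply, pullback.lift_fst]
        rfl
      have e3 : b v ∈ Set.range a := by
        rw [show Set.range a = _ from Scheme.Pullback.range_map ..]
        exact ⟨⟨x, e2.symm⟩, ⟨_, rfl⟩⟩
      exact hv.mem_closed isClosed_closure (subset_closure e3)
    have hc : _root_.IsConnected (b ⁻¹' Set.range a) := by
      have hsub : Set.range a ⊆ Set.range b := by
        rintro _ ⟨p, rfl⟩
        obtain ⟨w, hw⟩ := hjW (pullback.fst f H06Conn.genPt p)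
        rw [show Set.range b = _ from Scheme.Pullback.range_map ..]
        refine ⟨⟨w, ?_⟩, ⟨_, rfl⟩⟩
        rw [hw, ← Scheme.Hom.comp_apply, ← Scheme.Hom.comp_apply, pullback.lift_fst]
      refine ⟨?_, ?_⟩
      · obtain ⟨p⟩ := hP.toNonempty
        obtain ⟨w, hw⟩ := hsub ⟨p, rfl⟩
        exact ⟨w, p, hw.symm⟩
      · rw [← hb.toIsInducing.isPreconnected_image, Set.image_preimage_eq_inter_range,
          Set.inter_eq_left.2 hsub, ← Set.image_univ]
        exact isPreconnected_univ.image _ a.continuous.continuousOn
    exact connectedSpace_iff_univ.2 (hdense ▸ hc.closure)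
  have hpre := H06Conn.isPreconnected_closedFibre q hgen
  -- the closed fibre lies in `X`
  let s : Spec (CommRingCat.of R) := IsLocalRing.closedPoint R
  have hclosed : IsClosed (Set.range (f.fiberι s ≫ j)) := by
    have : IsProper ((f.fiberι s ≫ j) ≫ g) := by
      haveI : IsClosedImmersion ((Spec (CommRingCat.of R)).fromSpecResidueField s) :=
        IsClosedImmersion.of_isPreimmersion _ (by
          rw [Scheme.range_fromSpecResidueField]
          exact (PrimeSpectrum.isClosed_singleton_iff_isMaximal _).2 (IsLocalRing.maximalIdeal.isMaximal R))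
      rw [Category.assoc, hfg, show f.fiberι s ≫ f = f.fiberToSpecResidueField s ≫ (Spec (CommRingCat.of R)).fromSpecResidueField s from
        pullback.condition]
      infer_instance
    haveI : IsProper (f.fiberι s ≫ j) := IsProper.of_comp _ g
    exact (f.fiberι s ≫ j).isClosedMap.isClosed_range
  have hall : ∀ z ∈ closure (Set.range j), g z = s → z ∈ Set.range j := by
    intro z hz hgz
    obtain ⟨w, rfl⟩ : z ∈ Set.range i := hrange.symm ▸ hz
    by_contra hout
    have hU : IsOpen (i ⁻¹' Set.range j) := j.isOpenEmbedding.isOpen_range.preimage i.continuous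
    have hC : IsClosed (i ⁻¹' Set.range (f.fiberι s ≫ j)) := hclosed.preimage i.continuous
    obtain ⟨p⟩ := ‹Nonempty ↥(f.fiber (IsLocalRing.closedPoint R))›
    obtain ⟨w₀, hw₀⟩ := hjW (f.fiberι s p)
    have hfib : ∀ p', f (f.fiberι s p') = s := fun p' => by
      have : f.fiberι s p' ∈ Set.range (f.fiberι s) := ⟨p', rfl⟩
      rwa [Scheme.Hom.range_fiberι] at this
    have hw₀s : q w₀ = s := by rw [hqi, hw₀, hfj, hfib]
    have hsub : ∀ w', q w' = s → i w' ∈ Set.range j → i w' ∈ Set.range (f.fiberι s ≫ j) := by
      rintro w' hq' ⟨x, hx⟩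
      have : f x = s := by rw [← hfj, hx]; exact hq'
      obtain ⟨p', hp'⟩ : x ∈ Set.range (f.fiberι s) := by rw [Scheme.Hom.range_fiberι]; exact this
      exact ⟨p', by rw [Scheme.Hom.comp_apply, hp', hx]⟩
    obtain ⟨w', hw', hw'U, hw'C⟩ := hpre (i ⁻¹' Set.range j) ((i ⁻¹' Set.range (f.fiberι s ≫ j))ᶜ) hU hC.isOpen_compl
      (fun w' hw' => by
        by_cases h : i w' ∈ Set.range j
        · exact Or.inl h
        · exact Or.inr fun ⟨p', hp'⟩ => h ⟨_, hp'⟩)
      ⟨w₀, hw₀s, ⟨_, hw₀.symm⟩⟩ ⟨w, hgz, fun ⟨p', hp'⟩ => hout ⟨_, hp'⟩⟩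
    exact hw'C (hsub w' hw' hw'U)
  have hcl : IsClosed (Set.range j) := by
    by_contra hnc
    obtain ⟨z, hz, hzj⟩ : ∃ z ∈ closure (Set.range j), z ∉ Set.range j := by
      by_contra hh
      push Not at hh
      exact hnc (closure_eq_iff_isClosed.1 (Set.Subset.antisymm hh subset_closure))
    have hD : IsClosed (g '' (closure (Set.range j) \ Set.range j)) :=
      g.isClosedMap _ (isClosed_closure.sdiff j.isOpenEmbedding.isOpen_range)
    have hspec : g z ⤳ s := (PrimeSpectrum.le_iff_specializes _ _).1 (IsLocalRing.le_maximalIdeal (g z).2.ne_top)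
    obtain ⟨z', ⟨hz', hz'j⟩, hgz'⟩ := hspec.mem_closed hD ⟨z, ⟨hz, hzj⟩, rfl⟩
    exact hz'j (hall z' hz' hgz')
  haveI : IsClosedImmersion j := IsClosedImmersion.of_isPreimmersion j hcl
  rw [← hfg]
  infer_instance

/-- The closed fibre is geometrically connected as well. -/
theorem geometricallyConnected_closedFibre [Flat f] [IsProper f]
    [Nonempty ↥(f.fiber (IsLocalRing.closedPoint R))]
    [GeometricallyConnected (f.fiberToSpecResidueField (genR : Spec (CommRingCat.of R)))] :
    GeometricallyConnected (f.fiberToSpecResidueField (IsLocalRing.closedPoint R)) := by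
  haveI : LocallyOfFinitePresentation f := H18HTop.locallyOfFinitePresentation_of_noetherian f
  rw [H7Flat.GeomInt.geometricallyConnected_fiber_iff]
  have hle := H06Conn.nGeomConnComp_le_of_specializes f (y := (IsLocalRing.closedPoint R : Spec (CommRingCat.of R)))
    (y' := (genR : Spec (CommRingCat.of R))) ((PrimeSpectrum.le_iff_specializes _ _).1 bot_le)
    fun x _ Y' g x' _ U hU => by
      haveI : UniversallyOpen f := inferInstance
      exact (pullback.snd f g).isOpenMap.image_mem_nhds hU
  rw [(H7Flat.GeomInt.geometricallyConnected_fiber_iff f (genR : Spec (CommRingCat.of R))).1 inferInstance] at hle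
  refine le_antisymm hle ?_
  rw [MoreMor.nGeomConnComp, ENat.one_le_card_iff_nonempty]
  obtain ⟨p⟩ := ‹Nonempty ↥(f.fiber (IsLocalRing.closedPoint R))›
  haveI : Nonempty ↥(MoreMor.geomFiber f (IsLocalRing.closedPoint R)) := by
    obtain ⟨z, -, -⟩ := Scheme.Pullback.exists_preimage_pullback
      (f := f.fiberToSpecResidueField (IsLocalRing.closedPoint R))
      (g := Spec.map (CommRingCat.ofHom (algebraMap ((Spec (CommRingCat.of R)).residueField (IsLocalRing.closedPoint R))
        (SeparableClosure ((Spec (CommRingCat.of R)).residueField (IsLocalRing.closedPoint R))))))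
      p (IsLocalRing.closedPoint _) (Subsingleton.elim _ _)
    exact ⟨z⟩
  infer_instance

end Groth.Agent.H06ProperGC
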