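import Groth.Agent.H06EGA14.Chevalley3
import Groth.Agent.H06Conn.ProperCount
import Groth.Agent.H06EGA15.GeomPointsSemicont
import Groth.Agent.H18HTop.SpecLiftDVR
import Groth.Agent.H8Props.Stein.Basic
import Groth.Agent.H8Props.FibreDimSemicont
import Groth.Agent.S1297

/-!
Lower semicontinuity of the number of components of fibres when all components dominate.
-/

set_option autoImplicit false
set_option linter.style.haveILetI false
set_option backward.isDefEq.respectTransparency false

open CategoryTheory CategoryTheory.Limits AlgebraicGeometry TopologicalSpace Topology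

universe u

namespace Groth.Agent.H06ProperGC

theorem exists_nhds_le_nGeom {X Y : Scheme.{u}} [IrreducibleSpace Y] [IsLocallyNoetherian Y] (f : X ⟶ Y)
    [IsProper f] (hdom : ∀ Z ∈ irreducibleComponents (X : Type u), closure (f.base '' Z) = Set.univ) (y₀ : Y)
    (hy : CAlg2.IsGeomUnibranch (Y.presheaf.stalk y₀)) :
    ∃ V ∈ nhds y₀, ∀ z ∈ V, MoreMor.nGeomConnComp f y₀ ≤ MoreMor.nGeomConnComp f z := by
  let h := f.fromNormalization
  let u := f.toNormalization
  haveI : IsFinite h := S1297.result f
  haveI := H8Props.Stein.surjective_toNormalization f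
  haveI : LocallyOfFinitePresentation f := H18HTop.locallyOfFinitePresentation_of_noetherian f
  have hu : ∀ n, h n = y₀ → EGA43.IsUnivOpenAt h n := fun n hn => by
    obtain ⟨x, hx⟩ := u.surjective n
    let Z := irreducibleComponent x
    have hg := (isIrreducible_irreducibleComponent (x := x)).isGenericPoint_genericPoint isClosed_irreducibleComponent
    have hgen : f (isIrreducible_irreducibleComponent (x := x)).genericPoint ⤳ genericPoint Y := by
      rw [specializes_iff_mem_closure]
      have h1 : closure (f '' Z) = Set.univ := hdom Z (irreducibleComponent_mem_irreducibleComponents x)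
      have h2 : f '' Z ⊆ closure {f (isIrreducible_irreducibleComponent (x := x)).genericPoint} := by
        rintro _ ⟨c, hc, rfl⟩
        exact specializes_iff_mem_closure.1 ((hg.specializes hc).map f.continuous)
      exact closure_minimal h2 isClosed_closure (h1.symm ▸ Set.mem_univ (genericPoint Y))
    have hmax : ∀ w, w ⤳ f (isIrreducible_irreducibleComponent (x := x)).genericPoint →
        w = f (isIrreducible_irreducibleComponent (x := x)).genericPoint := fun w hw => by
      have h1 : (genericPoint Y) ⤳ w := genericPoint_specializes w
      rw [(hgen.antisymm (genericPoint_specializes _)).eq] at hw ⊢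
      exact (hw.antisymm h1).eq
    have hcomp : ∀ p, h (u p) = f p := fun p => by
      rw [← Scheme.Hom.comp_apply, f.toNormalization_fromNormalization]
    refine H06EGA14.isUnivOpenAt_of_dim_le h n (u (isIrreducible_irreducibleComponent (x := x)).genericPoint)
      (hx ▸ (hg.specializes mem_irreducibleComponent).map u.continuous) (fun w hw => ?_) ?_ (hn ▸ hy)
    · rw [hcomp] at hw ⊢
      exact hmax w hw
    · refine (H8Props.FieldDim.fibreDimAt_le_zero_of_quasiFiniteAt h (h.quasiFiniteAt n)).trans ?_
      haveI : Nonempty (IrreducibleCloseds ↑(closure {h.asFiber (u (isIrreducible_irreducibleComponent (x := x)).genericPoint)})) :=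
        ⟨⟨closure {⟨_, subset_closure rfl⟩}, isIrreducible_singleton.closure, isClosed_closure⟩⟩
      exact Order.krullDim_nonneg
  refine ⟨_, H06EGA15.setOf_le_mem_nhds f y₀ (H06Conn.nGeomConnComp_lt_top f y₀) fun y' hy' => ?_, fun z hz => hz⟩
  rw [H8Props.Stein.nGeomConnComp_eq f y₀, H8Props.Stein.nGeomConnComp_eq f y']
  exact H06Conn.nGeomConnComp_le_of_specializes h hy' hu

end Groth.Agent.H06ProperGC
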