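import Groth.Agent.H06ProperGC.DVR
import Groth.Agent.H11Val.Point
import Groth.Agent.H8Props.FibreCriterionApps

/-!
Properness near a proper fibre, for flat morphisms with geometrically connected generic fibres.
-/

set_option autoImplicit false
set_option linter.style.haveILetI false
set_option backward.isDefEq.respectTransparency false

open CategoryTheory CategoryTheory.Limits AlgebraicGeometry TopologicalSpace Topology

universe u

namespace Groth.Agent.H06ProperGC

variable {X S : Scheme.{u}} (f : X ⟶ S)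

/-- A property of a fibre passes to field valued base changes. -/
theorem snd_of_fiber {P : MorphismProperty Scheme.{u}} [P.IsStableUnderBaseChange] {K : Type u} [Field K]
    (a : Spec (CommRingCat.of K) ⟶ S) {s : S} (ha : a (IsLocalRing.closedPoint K) = s)
    (h : P (f.fiberToSpecResidueField s)) : P (pullback.snd f a) := by
  obtain ⟨⟨y, θ⟩, rfl⟩ := (Scheme.SpecToEquivOfField K S).symm.surjective a
  have ha' : (Spec.map θ ≫ S.fromSpecResidueField y) (IsLocalRing.closedPoint K) = s := ha
  rw [Scheme.Hom.comp_apply, Scheme.fromSpecResidueField_apply] at ha'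
  subst ha'
  have h1 := MorphismProperty.pullback_snd (P := P) (f.fiberToSpecResidueField y) (Spec.map θ) h
  change P (pullback.snd f (Spec.map θ ≫ S.fromSpecResidueField y))
  rw [← P.cancel_left_of_respectsIso (pullbackLeftPullbackSndIso f (S.fromSpecResidueField y) (Spec.map θ)).hom,
    pullbackLeftPullbackSndIso_hom_snd]
  exact h1

/-- Fibres of a base change. -/
theorem fiber_pullback {P : MorphismProperty Scheme.{u}} [P.IsStableUnderBaseChange] {T : Scheme.{u}} (φ : T ⟶ S)
    (t : T) (h : P (f.fiberToSpecResidueField (φ t))) : P ((pullback.snd f φ).fiberToSpecResidueField t) := by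
  have h1 := snd_of_fiber f (P := P) (T.fromSpecResidueField t ≫ φ) (s := φ t)
    ((Scheme.Hom.comp_apply _ _ _).trans (congrArg φ (T.fromSpecResidueField_apply t _))) h
  show P (pullback.snd (pullback.snd f φ) (T.fromSpecResidueField t))
  rw [← pullbackLeftPullbackSndIso_hom_snd f φ (T.fromSpecResidueField t), P.cancel_left_of_respectsIso]
  exact h1

theorem fiber_of_isPullback {P : MorphismProperty Scheme.{u}} [P.IsStableUnderBaseChange] {X' T : Scheme.{u}}
    {h : X' ⟶ X} {f' : X' ⟶ T} {φ : T ⟶ S} (hpb : IsPullback h f' f φ) (t : T)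
    (hP : P (f.fiberToSpecResidueField (φ t))) : P (f'.fiberToSpecResidueField t) := by
  have big := (IsPullback.of_hasPullback f' (T.fromSpecResidueField t)).flip.paste_vert hpb.flip
  have h1 := snd_of_fiber f (P := P) (T.fromSpecResidueField t ≫ φ) (s := φ t)
    ((Scheme.Hom.comp_apply _ _ _).trans (congrArg φ (T.fromSpecResidueField_apply t _))) hP
  show P (pullback.snd f' _)
  rw [← big.flip.isoPullback_hom_snd, P.cancel_left_of_respectsIso]
  exact h1

theorem nonempty_fiber_pullback {T : Scheme.{u}} (φ : T ⟶ S) (t : T) (x : X) (hx : f x = φ t) :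
    Nonempty ↥((pullback.snd f φ).fiber t) := by
  obtain ⟨z, -, hz⟩ := Scheme.Pullback.exists_preimage_pullback (f := f) (g := φ) x t hx
  exact ⟨((pullback.snd f φ).fiberHomeo t).symm ⟨z, hz⟩⟩

variable [IsLocallyNoetherian S] [Flat f] [IsSeparated f] [LocallyOfFiniteType f] [QuasiCompact f]

/-- No point over `s` is added by a compactification. -/
theorem mem_range_of_closure
    (hgen : ∀ η : S, (∀ η' : S, η' ⤳ η → η' = η) → Nonempty ↥(f.fiber η) →
      GeometricallyConnected (f.fiberToSpecResidueField η))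
    {Xc : Scheme.{u}} (j : X ⟶ Xc) [IsOpenImmersion j] (g : Xc ⟶ S) [IsProper g] (hfg : j ≫ g = f)
    (x₀ : X) (hs : IsProper (f.fiberToSpecResidueField (f x₀))) (x : X) (hxmax : ∀ x', x' ⤳ x → x' = x)
    (z : Xc) (hz : j x ⤳ z) (hgz : g z = f x₀) : z ∈ Set.range j := by
  rcases eq_or_ne z (j x) with rfl | hne
  · exact Set.mem_range_self x
  haveI : LocallyOfFiniteType j := inferInstance
  haveI : IsLocallyNoetherian Xc := LocallyOfFiniteType.isLocallyNoetherian g
  obtain ⟨A, h, hA, hclosed, hgenh⟩ := H11Val.exists_dvr_hom_through j x z hz hne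
  haveI := hA
  let φ : Spec (CommRingCat.of A) ⟶ S := h ≫ g
  have hη : h (genR : PrimeSpectrum A) = j x := by
    let ι := Spec.map (CommRingCat.ofHom A.subtype)
    have h1 : ι (IsLocalRing.closedPoint (X.residueField x)) = (genR : PrimeSpectrum A) := by
      refine PrimeSpectrum.ext ?_
      show Ideal.comap A.subtype (IsLocalRing.maximalIdeal (X.residueField x)) = ⊥
      rw [IsLocalRing.maximalIdeal_eq_bot, ← RingHom.ker_eq_comap_bot, ← RingHom.injective_iff_ker_eq_bot]
      exact Subtype.val_injective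
    rw [← h1, ← Scheme.Hom.comp_apply, hgenh, Scheme.Hom.comp_apply]
    exact congrArg j (X.fromSpecResidueField_apply x _)
  have hφη : φ (genR : PrimeSpectrum A) = f x := by
    show (h ≫ g) _ = _
    rw [Scheme.Hom.comp_apply, hη, ← Scheme.Hom.comp_apply, hfg]
  have hφs : φ (IsLocalRing.closedPoint A) = f x₀ := by
    show (h ≫ g) _ = _
    rw [Scheme.Hom.comp_apply, hclosed, hgz]
  let fA := pullback.snd f φ
  haveI : Nonempty ↥(fA.fiber (IsLocalRing.closedPoint A)) := nonempty_fiber_pullback f φ _ x₀ hφs.symm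
  haveI : IsProper (fA.fiberToSpecResidueField (IsLocalRing.closedPoint A)) :=
    fiber_pullback f (P := @IsProper) φ _ (hφs ▸ hs)
  have hmaxS : ∀ η', η' ⤳ f x → η' = f x := fun η' hη' => by
    obtain ⟨x', hx', e⟩ := Flat.generalizingMap f hη'
    rw [← e, hxmax x' hx']
  haveI : GeometricallyConnected (fA.fiberToSpecResidueField (genR : Spec (CommRingCat.of A))) :=
    fiber_pullback f (P := @GeometricallyConnected) φ _
      (hφη ▸ hgen (f x) hmaxS ⟨f.asFiber x⟩)
  haveI : IsProper fA := isProper_of_closedFibre fA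
  let gA := pullback.snd g φ
  let b : pullback f φ ⟶ pullback g φ := pullback.map f φ g φ j (𝟙 _) (𝟙 _) (by simp [hfg]) (by simp)
  haveI : IsProper (b ≫ gA) := by
    rw [show b ≫ gA = fA from (pullback.lift_snd _ _ _).trans (Category.comp_id _)]
    infer_instance
  haveI : IsProper b := IsProper.of_comp b gA
  let σ : Spec (CommRingCat.of A) ⟶ pullback g φ := pullback.lift h (𝟙 _) (by simp [φ])
  have hσ : ∀ t, σ t ∈ Set.range b ↔ h t ∈ Set.range j := fun t => by
    rw [show Set.range b = _ from Scheme.Pullback.range_map ..]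
    simp only [Set.mem_inter_iff, Set.mem_preimage]
    rw [← Scheme.Hom.comp_apply, pullback.lift_fst]
    exact and_iff_left ⟨_, rfl⟩
  have hspec : σ (genR : PrimeSpectrum A) ⤳ σ (IsLocalRing.closedPoint A) :=
    ((PrimeSpectrum.le_iff_specializes _ _).1 bot_le).map σ.continuous
  have := hspec.mem_closed b.isClosedMap.isClosed_range ((hσ _).2 (hη ▸ Set.mem_range_self x))
  rw [hσ, hclosed] at this
  exact this

/-- Properness near a proper fibre. -/
theorem exists_isProper_restrict
    (hgen : ∀ η : S, (∀ η' : S, η' ⤳ η → η' = η) → Nonempty ↥(f.fiber η) →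
      GeometricallyConnected (f.fiberToSpecResidueField η))
    (s : S) [Nonempty ↥(f.fiber s)] (hs : IsProper (f.fiberToSpecResidueField s)) :
    ∃ U : S.Opens, s ∈ U ∧ IsProper (f ∣_ U) := by
  obtain ⟨_, ⟨U₁, hU₀, rfl⟩, hsU, -⟩ :=
    S.isBasis_affineOpens.exists_subset_of_mem_open (Set.mem_univ s) isOpen_univ
  obtain ⟨U₀, rfl⟩ : ∃ U : S.Opens, U = U₁ := ⟨U₁, rfl⟩
  haveI : IsAffine (Scheme.Opens.toScheme U₀) := hU₀
  let f₀ := f ∣_ U₀
  obtain ⟨Xc, j, g, hj, hjq, hg, hfg⟩ := S0384.result f₀
  haveI : LocallyOfFiniteType U₀.ι := inferInstance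
  haveI : IsLocallyNoetherian (Scheme.Opens.toScheme U₀) := LocallyOfFiniteType.isLocallyNoetherian U₀.ι
  haveI : IsLocallyNoetherian (Scheme.Opens.toScheme (f ⁻¹ᵁ U₀)) := LocallyOfFiniteType.isLocallyNoetherian f₀
  haveI : CompactSpace (Scheme.Opens.toScheme (f ⁻¹ᵁ U₀)) := QuasiCompact.compactSpace_of_compactSpace f₀
  haveI : IsNoetherian (Scheme.Opens.toScheme (f ⁻¹ᵁ U₀)) := {}
  let s₀ : (Scheme.Opens.toScheme U₀) := ⟨s, hsU⟩
  let p : ↥(f.fiber s) := Classical.ofNonempty
  have hp : f (f.fiberι s p) = s := by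
    have : f.fiberι s p ∈ Set.range (f.fiberι s) := ⟨p, rfl⟩
    rwa [Scheme.Hom.range_fiberι] at this
  let x₀ : (Scheme.Opens.toScheme (f ⁻¹ᵁ U₀)) := ⟨f.fiberι s p, show f _ ∈ U₀ from hp.symm ▸ hsU⟩
  have hgen₀ : ∀ η : (Scheme.Opens.toScheme U₀), (∀ η', η' ⤳ η → η' = η) → Nonempty ↥(f₀.fiber η) →
      GeometricallyConnected (f₀.fiberToSpecResidueField η) := by
    intro η hmax hne
    have hpb := (isPullback_morphismRestrict f U₀).flip
    have h1 : GeometricallyConnected (f.fiberToSpecResidueField (U₀.ι η)) := by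
      refine hgen _ (fun η' hη' => ?_) ?_
      · have : η' ∈ U₀ := hη'.mem_open U₀.2 η.2
        exact congrArg Subtype.val (hmax ⟨η', this⟩ (U₀.ι.isEmbedding.toIsInducing.specializes_iff.1 hη'))
      · obtain ⟨q⟩ := hne
        refine ⟨(f.fiberHomeo _).symm ⟨(f ⁻¹ᵁ U₀).ι (f₀.fiberι η q), ?_⟩⟩
        have : f₀ (f₀.fiberι η q) = η := by
          have : f₀.fiberι η q ∈ Set.range (f₀.fiberι η) := ⟨q, rfl⟩
          rwa [Scheme.Hom.range_fiberι] at this
        show f _ = U₀.ι η
        refine Eq.trans ?_ (congrArg U₀.ι this)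
        rw [← Scheme.Hom.comp_apply, ← Scheme.Hom.comp_apply]
        exact congrArg (fun φ => φ (f₀.fiberι η q)) hpb.w.symm |>.symm
    exact fiber_of_isPullback f (P := @GeometricallyConnected) hpb η h1
  have hs₀ : IsProper (f₀.fiberToSpecResidueField (f₀ x₀)) := by
    have hpb := (isPullback_morphismRestrict f U₀).flip
    have e : U₀.ι (f₀ x₀) = s := by
      rw [← Scheme.Hom.comp_apply, ← hpb.w, Scheme.Hom.comp_apply]; exact hp
    exact fiber_of_isPullback f (P := @IsProper) hpb (f₀ x₀) (e.symm ▸ hs)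
  have hs₀' : f₀ x₀ = s₀ := Subtype.ext (by
    show U₀.ι (f₀ x₀) = s
    rw [← Scheme.Hom.comp_apply, morphismRestrict_ι, Scheme.Hom.comp_apply]
    exact hp)
  let D := g '' (closure (Set.range j) \ Set.range j)
  have hD : IsClosed D := g.isClosedMap _ (isClosed_closure.sdiff j.isOpenEmbedding.isOpen_range)
  have hsD : s₀ ∉ D := by
    rintro ⟨z, ⟨hz, hzj⟩, hgz⟩
    have hfin : (irreducibleComponents (Scheme.Opens.toScheme (f ⁻¹ᵁ U₀))).Finite := NoetherianSpace.finite_irreducibleComponents
    have : Set.range j = ⋃ C ∈ irreducibleComponents (Scheme.Opens.toScheme (f ⁻¹ᵁ U₀)), j '' C := by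
      rw [← Set.image_iUnion₂, ← Set.sUnion_eq_biUnion, sUnion_irreducibleComponents, Set.image_univ]
    rw [this, hfin.closure_biUnion] at hz
    obtain ⟨C, hC, hzC⟩ := Set.mem_iUnion₂.1 hz
    have hg := hC.1.isGenericPoint_genericPoint (isClosed_of_mem_irreducibleComponents C hC)
    refine hzj (mem_range_of_closure f₀ hgen₀ j g hfg x₀ hs₀ hC.1.genericPoint (fun x' hx' => ?_) z ?_
      (hgz.trans hs₀'.symm))
    · have hle : C ⊆ closure {x'} := by
        rw [← hg]
        exact (isClosed_closure.closure_subset_iff).2 (Set.singleton_subset_iff.2 hx'.mem_closure)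
      exact IsGenericPoint.eq (le_antisymm (hC.2 isIrreducible_singleton.closure hle) hle) hg
    · refine specializes_iff_mem_closure.2 (closure_minimal ?_ isClosed_closure hzC)
      rintro _ ⟨c, hc, rfl⟩
      exact specializes_iff_mem_closure.1 ((hg.specializes hc).map j.continuous)
  let V : (Scheme.Opens.toScheme U₀).Opens := ⟨Dᶜ, hD.isOpen_compl⟩
  refine ⟨U₀.ι ''ᵁ V, ⟨s₀, hsD, rfl⟩, ?_⟩
  rw [(MorphismProperty.arrow_mk_iso_iff @IsProper (morphismRestrictRestrict f U₀ V)).symm]
  show IsProper (f₀ ∣_ V)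
  haveI : IsClosedImmersion (j ∣_ (g ⁻¹ᵁ V)) := by
    refine IsClosedImmersion.of_isPreimmersion _ ?_
    have h1 : Set.range (j ∣_ (g ⁻¹ᵁ V)) = (g ⁻¹ᵁ V).ι ⁻¹' closure (Set.range j) := by
      ext w
      constructor
      · rintro ⟨v, rfl⟩
        refine subset_closure ⟨(j ⁻¹ᵁ g ⁻¹ᵁ V).ι v, ?_⟩
        rw [← Scheme.Hom.comp_apply, ← morphismRestrict_ι]
        rfl
      · intro hw
        by_contra hh
        have hin : (g ⁻¹ᵁ V).ι w ∈ Set.range j := by
          by_contra h2
          exact w.2 ⟨_, ⟨hw, h2⟩, rfl⟩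
        obtain ⟨v, hv⟩ := hin
        refine hh ⟨⟨v, ?_⟩, ?_⟩
        · show j v ∈ g ⁻¹ᵁ V
          rw [hv]; exact w.2
        · apply (g ⁻¹ᵁ V).ι.isEmbedding.injective
          rw [← Scheme.Hom.comp_apply, morphismRestrict_ι, Scheme.Hom.comp_apply]
          exact hv
    rw [h1]
    exact isClosed_closure.preimage (g ⁻¹ᵁ V).ι.continuous
  haveI : IsProper (g ∣_ V) := IsZariskiLocalAtTarget.restrict (P := @IsProper) hg V
  have : IsProper ((j ≫ g) ∣_ V) := by
    rw [morphismRestrict_comp]
    infer_instance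
  rwa [hfg] at this

omit [LocallyOfFiniteType f] in
/-- Flat with smooth proper fibres and geometrically connected generic fibres. -/
theorem isProper_smooth_geometricallyConnected [Surjective f] [LocallyOfFinitePresentation f]
    (hsm : ∀ s : S, Smooth (f.fiberToSpecResidueField s))
    (hpr : ∀ s : S, IsProper (f.fiberToSpecResidueField s))
    (hgen : ∀ η : S, (∀ η' : S, η' ⤳ η → η' = η) → GeometricallyConnected (f.fiberToSpecResidueField η)) :
    IsProper f ∧ Smooth f ∧ GeometricallyConnected f := by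
  have hne : ∀ s : S, Nonempty ↥(f.fiber s) := fun s => by
    obtain ⟨x, rfl⟩ := f.surjective s
    exact ⟨f.asFiber x⟩
  haveI : IsProper f := by
    choose U hsU hU using fun s => @exists_isProper_restrict _ _ f _ _ _ _ _ (fun η h _ => hgen η h) s (hne s) (hpr s)
    refine IsZariskiLocalAtTarget.of_iSup_eq_top (P := @IsProper) U (top_unique fun s _ => ?_) hU
    exact Opens.mem_iSup.2 ⟨s, hsU s⟩
  refine ⟨inferInstance, ?_, ?_⟩
  · refine Scheme.Hom.smoothLocus_eq_top_iff.mp (top_unique fun x _ => ?_)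
    haveI := hsm (f x)
    refine H17.LocusBC.mem_smoothLocus_of_flat_of_fiber f x (Flat.stalkMap f x) ?_
    rw [(f.fiberToSpecResidueField (f x)).smoothLocus_eq_top]
    trivial
  · rw [GeometricallyConnected.iff_geometricallyConnected_fiber]
    intro s
    obtain ⟨η, hη, hmax⟩ := exists_maximal_generization s
    rw [H7Flat.GeomInt.geometricallyConnected_fiber_iff]
    have hle := H06Conn.nGeomConnComp_le_of_specializes f hη fun x _ Y' g x' _ U hU =>
      (pullback.snd f g).isOpenMap.image_mem_nhds hU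
    rw [(H7Flat.GeomInt.geometricallyConnected_fiber_iff f _).1 (hgen η hmax)] at hle
    refine le_antisymm hle ?_
    rw [MoreMor.nGeomConnComp, ENat.one_le_card_iff_nonempty]
    obtain ⟨p⟩ := hne s
    obtain ⟨z, -, -⟩ := Scheme.Pullback.exists_preimage_pullback
      (f := f.fiberToSpecResidueField s)
      (g := Spec.map (CommRingCat.ofHom (algebraMap (S.residueField s) (SeparableClosure (S.residueField s)))))
      p (IsLocalRing.closedPoint _) (Subsingleton.elim _ _)
    haveI : Nonempty ↥(MoreMor.geomFiber f s) := ⟨z⟩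
    infer_instance

end Groth.Agent.H06ProperGC
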